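import Groth.Agent.ExtFX.Proj

/-!
# Biduality of finite locally free modules for the internal Hom
-/

set_option linter.style.haveILetI false
set_option linter.unusedSectionVars false
set_option backward.isDefEq.respectTransparency false
set_option backward.isDefEq.respectTransparency.types false
set_option maxHeartbeats 1000000

universe u

open CategoryTheory CategoryTheory.Limits AlgebraicGeometry TopologicalSpace Opposite

noncomputable section

attribute [local instance] CategoryTheory.Abelian.hasFiniteBiproducts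

namespace Groth.Agent.ExtFX

open Groth.Agent.ExtShX

variable {X : Scheme.{u}}

local notation "T⊗" => DCoh.tensorBi

/-- The dual of a map. -/
abbrev dlMap {L L' : X.Modules} (g : L' ⟶ L) : dl L ⟶ dl L' := (SheafHomX.homMap g).app (Coh.structureModule X)

/-- Evaluation. -/
def evalSwap (N : X.Modules) : (SheafHomX.ten (dl N)).obj N ⟶ Coh.structureModule X :=
  (((KFlatLib.tensorBiFlipIso X).app (dl N)).app N).hom ≫ (SheafHomX.adj N).counit.app (Coh.structureModule X)

/-- The biduality map. -/
def bidual (N : X.Modules) : N ⟶ dl (dl N) := (SheafHomX.adj (dl N)).homEquiv _ _ (evalSwap N)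

theorem bidual_natural {N N' : X.Modules} (g : N' ⟶ N) : g ≫ bidual N = bidual N' ≫ dlMap (dlMap g) := by
  refine SheafHomX.hom_ext ?_
  rw [SheafHomX.homEquiv_homMap, bidual, bidual, Adjunction.homEquiv_naturality_left_symm,
    Equiv.symm_apply_apply, Equiv.symm_apply_apply]
  let O := Coh.structureModule X
  have hd : ((T⊗).map (dlMap g)).app N' ≫ (SheafHomX.adj N').counit.app O =
      ((T⊗).obj (dl N)).map g ≫ (SheafHomX.adj N).counit.app O := by
    have hd := SheafHomX.homEquiv_homMap g (𝟙 (dl N)) (N := O)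
    rw [Category.id_comp] at hd
    erw [Adjunction.homEquiv_counit, Adjunction.homEquiv_counit, CategoryTheory.Functor.map_id,
      Category.id_comp] at hd
    exact hd
  let σ := (KFlatLib.tensorBiFlipIso X).hom
  show ((T⊗).map g).app (dl N) ≫ (σ.app (dl N)).app N ≫ (SheafHomX.adj N).counit.app O =
    ((T⊗).obj N').map (dlMap g) ≫ (σ.app (dl N')).app N' ≫ (SheafHomX.adj N').counit.app O
  have a1 : ((T⊗).map g).app (dl N) ≫ (σ.app (dl N)).app N = (σ.app (dl N)).app N' ≫ ((T⊗).obj (dl N)).map g :=
    (σ.app (dl N)).naturality g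
  have a2 : ((T⊗).obj N').map (dlMap g) ≫ (σ.app (dl N')).app N' =
      (σ.app (dl N)).app N' ≫ ((T⊗).map (dlMap g)).app N' :=
    NatTrans.congr_app (σ.naturality (dlMap g)) N'
  refine ((Category.assoc _ _ _).symm.trans ((congrArg (· ≫ _) a1).trans (Category.assoc _ _ _))).trans ?_
  refine Eq.trans ?_ ((Category.assoc _ _ _).symm.trans ((congrArg (· ≫ _) a2).trans (Category.assoc _ _ _))).symm
  exact congrArg ((σ.app (dl N)).app N' ≫ ·) hd.symm

/-- The dual of the structure module. -/
def dlUnitIso : dl (Coh.structureModule X) ≅ Coh.structureModule X :=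
  haveI : (SheafHomX.ten (Coh.structureModule X)).IsEquivalence :=
    Functor.isEquivalence_of_iso (KFlatLib.tensorStructureIso X).symm
  haveI : IsIso ((SheafHomX.adj (Coh.structureModule X)).counit.app (Coh.structureModule X)) := inferInstance
  ((KFlatLib.tensorStructureIso X).app (dl (Coh.structureModule X))).symm ≪≫
    asIso ((SheafHomX.adj (Coh.structureModule X)).counit.app (Coh.structureModule X))

theorem isIso_bidual_unit : IsIso (bidual (Coh.structureModule X)) := by
  let O := Coh.structureModule X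
  haveI : (SheafHomX.ten O).IsEquivalence :=
    Functor.isEquivalence_of_iso (KFlatLib.tensorStructureIso X).symm
  haveI : (SheafHomX.ten (dl O)).IsEquivalence :=
    Functor.isEquivalence_of_iso ((DCoh.tensorBi (X := X)).flip.mapIso (dlUnitIso (X := X))).symm
  haveI : IsIso ((SheafHomX.adj O).counit.app O) := inferInstance
  haveI : IsIso (evalSwap O) := by unfold evalSwap; infer_instance
  haveI : IsIso ((SheafHomX.adj (dl O)).unit.app O) := inferInstance
  rw [bidual, Adjunction.homEquiv_unit]
  infer_instance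

theorem isIso_stalk_bidual_iff {U : X.Opens} {L L' : X.Modules} (g : L' ⟶ L)
    (hg : ∀ x ∈ U, IsIso ((DerSch.stalkFunctor X x).map g)) {x : X} (hx : x ∈ U) :
    IsIso ((DerSch.stalkFunctor X x).map (bidual L')) ↔ IsIso ((DerSch.stalkFunctor X x).map (bidual L)) := by
  let σ := DerSch.stalkFunctor X x
  haveI := isIso_restrict_homMap g hg (Coh.structureModule X)
  have h1 : ∀ y ∈ U, IsIso ((DerSch.stalkFunctor X y).map (dlMap g)) := fun y hy =>
    isIso_stalk_of_restrict (dlMap g) hy
  haveI := isIso_restrict_homMap (dlMap g) h1 (Coh.structureModule X)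
  haveI : IsIso (σ.map (dlMap (dlMap g))) := isIso_stalk_of_restrict (dlMap (dlMap g)) hx
  haveI := hg x hx
  have h := congrArg σ.map (bidual_natural g)
  rw [Functor.map_comp, Functor.map_comp] at h
  constructor <;> intro hi
  · haveI : IsIso (σ.map g ≫ σ.map (bidual L)) := h.symm ▸ inferInstance
    exact IsIso.of_isIso_comp_left (σ.map g) _
  · haveI : IsIso (σ.map (bidual L') ≫ σ.map (dlMap (dlMap g))) := h ▸ inferInstance
    exact IsIso.of_isIso_comp_right _ (σ.map (dlMap (dlMap g)))

theorem sum_dlMap {L : X.Modules} {ι : Type} [Fintype ι] (S : ι → X.Modules) (p : ∀ a, L ⟶ S a)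
    (q : ∀ a, S a ⟶ L) (h : ∑ a, p a ≫ q a = 𝟙 L) : ∑ a, dlMap (q a) ≫ dlMap (p a) = 𝟙 (dl L) := by
  simp only [dlMap, ← SheafHomX.homMap_comp]
  show (∑ a, SheafHomX.homMapHom L L (Coh.structureModule X) (p a ≫ q a)) = _
  rw [← map_sum (SheafHomX.homMapHom L L (Coh.structureModule X)) (fun a => p a ≫ q a), h]
  exact SheafHomX.homMap_id L (Coh.structureModule X)

theorem isIso_bidual {L : X.Modules} (hL : FlatMod.IsFinLocFree L) : IsIso (bidual L) := by
  classical
  refine KFlatLib.isIso_of_stalk _ fun x => ?_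
  obtain ⟨U, n, hx, ⟨e⟩⟩ := hL x
  let R := Scheme.Modules.restrictFunctor U.ι
  let lsh := KFlatLib.lsh U.ι
  haveI : lsh.Additive := by
    haveI : PreservesColimits lsh := (KFlatLib.lshAdj U.ι).leftAdjoint_preservesColimits
    exact Functor.additive_of_preserves_binary_products _
  let σ := DerSch.stalkFunctor X x
  refine (isIso_stalk_bidual_iff ((KFlatLib.lshAdj U.ι).counit.app L)
    (fun y hy => KFlatLib.isIso_stalk_lsh_counit U L y hy) hx).1 ?_
  let O' := Coh.structureModule (U : Scheme.{u})
  let S : Fin n → X.Modules := fun _ => lsh.obj O'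
  let p₀ : ∀ a : Fin n, R.obj L ⟶ O' := fun a =>
    e.hom ≫ Sigma.desc (fun b => if b = a then 𝟙 O' else 0)
  let q₀ : ∀ a : Fin n, O' ⟶ R.obj L := fun a => Sigma.ι (fun _ : Fin n => O') a ≫ e.inv
  have hpq₀ : ∑ a, p₀ a ≫ q₀ a = 𝟙 (R.obj L) := by
    simp only [p₀, q₀, Category.assoc]
    rw [← Preadditive.comp_sum, ← cancel_mono e.hom, Category.assoc, Category.id_comp]
    conv_rhs => rw [← Category.comp_id e.hom]
    congr 1
    refine Sigma.hom_ext _ _ fun b => ?_
    rw [Preadditive.sum_comp, Preadditive.comp_sum]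
    simp [colimit.ι_desc_assoc, ite_comp]
    exact Category.id_comp _
  let p : ∀ a, lsh.obj (R.obj L) ⟶ S a := fun a => lsh.map (p₀ a)
  let q : ∀ a, S a ⟶ lsh.obj (R.obj L) := fun a => lsh.map (q₀ a)
  have hpq : ∑ a, p a ≫ q a = 𝟙 _ := by
    simp only [p, q, ← Functor.map_comp]
    rw [← Functor.map_sum, hpq₀, CategoryTheory.Functor.map_id]
  have hS : ∀ a, IsIso (σ.map (bidual (S a))) := fun a => by
    haveI := isIso_bidual_unit (X := X)
    exact (isIso_stalk_bidual_iff (openIncl U) (fun y hy => isIso_stalk_openIncl U y hy) hx).2 inferInstance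
  have hdd : ∑ a, dlMap (dlMap (p a)) ≫ dlMap (dlMap (q a)) = 𝟙 _ :=
    sum_dlMap (fun a => dl (S a)) (fun a => dlMap (q a)) (fun a => dlMap (p a)) (sum_dlMap S p q hpq)
  have nat : ∀ {A B : X.Modules} (g : A ⟶ B), σ.map g ≫ σ.map (bidual B) =
      σ.map (bidual A) ≫ σ.map (dlMap (dlMap g)) := fun g => by
    rw [← Functor.map_comp, ← Functor.map_comp, bidual_natural]
  refine ⟨⟨∑ a, σ.map (dlMap (dlMap (p a))) ≫ (@inv _ _ _ _ (σ.map (bidual (S a))) (hS a)) ≫ σ.map (q a), ?_, ?_⟩⟩
  · rw [Preadditive.comp_sum]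
    refine Eq.trans (Finset.sum_congr rfl fun a _ => ?_) (show (∑ a, σ.map (p a ≫ q a)) = 𝟙 _ from ?_)
    · haveI := hS a
      rw [← Category.assoc, ← nat, Category.assoc, IsIso.hom_inv_id_assoc, ← Functor.map_comp]
    · rw [← Functor.map_sum, hpq, CategoryTheory.Functor.map_id]
  · rw [Preadditive.sum_comp]
    refine Eq.trans (Finset.sum_congr rfl fun a _ => ?_)
      (show (∑ a, σ.map (dlMap (dlMap (p a)) ≫ dlMap (dlMap (q a)))) = 𝟙 _ from ?_)
    · haveI := hS a
      rw [Category.assoc, Category.assoc, nat, IsIso.inv_hom_id_assoc, ← Functor.map_comp]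
    · rw [← Functor.map_sum, hdd, CategoryTheory.Functor.map_id]

end Groth.Agent.ExtFX
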