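import Mathlib.CategoryTheory.Abelian.RightDerived
import Mathlib.Algebra.Homology.HomologySequence
import Mathlib.Algebra.Homology.HomologicalComplexAbelian
import Mathlib.Algebra.Homology.ShortComplex.Exact

/-!
# Long exact sequences of derived functors of a sequence of functors exact on injectives
-/

set_option autoImplicit false
set_option linter.style.haveILetI false

universe v u v' u'

open CategoryTheory CategoryTheory.Limits

noncomputable section

namespace Groth.Agent.ExtFX

variable {C : Type u} [Category.{v} C] [Abelian C] [HasInjectiveResolutions C] {D : Type u'} [Category.{v'} D]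
  [Abelian D] {A B K : C ⥤ D} [A.Additive] [B.Additive] [K.Additive] (α : A ⟶ B) (β : B ⟶ K)

/-- The sequence of complexes on an injective resolution. -/
def derivedCx (hw : ∀ Z, α.app Z ≫ β.app Z = 0) {X : C} (P : InjectiveResolution X) :
    ShortComplex (CochainComplex D ℕ) :=
  ShortComplex.mk ((NatTrans.mapHomologicalComplex α _).app P.cocomplex)
    ((NatTrans.mapHomologicalComplex β _).app P.cocomplex)
    (HomologicalComplex.hom_ext _ _ fun n => hw (P.cocomplex.X n))

theorem shortExact_derivedCx (hw : ∀ Z, α.app Z ≫ β.app Z = 0)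
    (hex : ∀ I : C, Injective I → (ShortComplex.mk (α.app I) (β.app I) (hw I)).ShortExact)
    {X : C} (P : InjectiveResolution X) : (derivedCx α β hw P).ShortExact :=
  HomologicalComplex.shortExact_of_degreewise_shortExact _ fun n => hex (P.cocomplex.X n) (P.injective n)

/-- The long exact sequence. -/
theorem exists_derived_les (hw : ∀ Z, α.app Z ≫ β.app Z = 0)
    (hex : ∀ I : C, Injective I → (ShortComplex.mk (α.app I) (β.app I) (hw I)).ShortExact) (X : C) :
    Mono ((NatTrans.rightDerived α 0).app X) ∧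
    (∀ p : ℕ, ∃ w : (NatTrans.rightDerived α p).app X ≫ (NatTrans.rightDerived β p).app X = 0,
      (ShortComplex.mk _ _ w).Exact) ∧
    ∃ δ : ∀ p : ℕ, (K.rightDerived p).obj X ⟶ (A.rightDerived (p + 1)).obj X, ∀ p : ℕ,
      (∃ w : (NatTrans.rightDerived β p).app X ≫ δ p = 0, (ShortComplex.mk _ _ w).Exact) ∧
      (∃ w : δ p ≫ (NatTrans.rightDerived α (p + 1)).app X = 0, (ShortComplex.mk _ _ w).Exact) := by
  let P := injectiveResolution X
  let T := derivedCx α β hw P
  have hT : T.ShortExact := shortExact_derivedCx α β hw hex P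
  let a : ∀ p, (A.rightDerived p).obj X ≅ T.X₁.homology p := fun p => P.isoRightDerivedObj A p
  let b : ∀ p, (B.rightDerived p).obj X ≅ T.X₂.homology p := fun p => P.isoRightDerivedObj B p
  let c : ∀ p, (K.rightDerived p).obj X ≅ T.X₃.homology p := fun p => P.isoRightDerivedObj K p
  have hα : ∀ p, (NatTrans.rightDerived α p).app X =
      (a p).hom ≫ HomologicalComplex.homologyMap T.f p ≫ (b p).inv := fun p =>
    InjectiveResolution.rightDerived_app_eq α P p
  have hβ : ∀ p, (NatTrans.rightDerived β p).app X =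
      (b p).hom ≫ HomologicalComplex.homologyMap T.g p ≫ (c p).inv := fun p =>
    InjectiveResolution.rightDerived_app_eq β P p
  refine ⟨?_, fun p => ?_, fun p => (c p).hom ≫ hT.δ p (p + 1) rfl ≫ (a (p + 1)).inv, fun p => ⟨?_, ?_⟩⟩
  · haveI := hT.mono_f
    haveI : Mono (HomologicalComplex.homologyMap T.f 0) :=
      haveI : Mono (T.f.f 0) := inferInstanceAs (Mono ((HomologicalComplex.eval D _ 0).map T.f))
      HomologicalComplex.mono_homologyMap_of_mono_of_not_rel T.f 0 (fun j h => Nat.succ_ne_zero j h)
    rw [hα]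
    infer_instance
  · have w : (NatTrans.rightDerived α p).app X ≫ (NatTrans.rightDerived β p).app X = 0 := by
      rw [hα, hβ]
      simp [← HomologicalComplex.homologyMap_comp_assoc]
    refine ⟨w, (ShortComplex.exact_iff_of_iso ?_).2 (hT.homology_exact₂ p)⟩
    exact ShortComplex.isoMk (a p) (b p) (c p) (by simp [hα]) (by simp [hβ])
  · have w : (NatTrans.rightDerived β p).app X ≫ (c p).hom ≫ hT.δ p (p + 1) rfl ≫ (a (p + 1)).inv = 0 := by
      rw [hβ]
      simp [reassoc_of% (hT.comp_δ p (p + 1) rfl)]
    refine ⟨w, (ShortComplex.exact_iff_of_iso ?_).2 (hT.homology_exact₃ p (p + 1) rfl)⟩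
    exact ShortComplex.isoMk (b p) (c p) (a (p + 1)) (by simp [hβ]) (by simp)
  · have w : ((c p).hom ≫ hT.δ p (p + 1) rfl ≫ (a (p + 1)).inv) ≫ (NatTrans.rightDerived α (p + 1)).app X = 0 := by
      rw [hα]
      simp [reassoc_of% (hT.δ_comp p (p + 1) rfl)]
    refine ⟨w, (ShortComplex.exact_iff_of_iso ?_).2 (hT.homology_exact₁ p (p + 1) rfl)⟩
    exact ShortComplex.isoMk (c p) (a (p + 1)) (b (p + 1)) (by simp) (by simp [hα])

/-- Dimension shifting. -/
theorem exists_shift (hw : ∀ Z, α.app Z ≫ β.app Z = 0)
    (hex : ∀ I : C, Injective I → (ShortComplex.mk (α.app I) (β.app I) (hw I)).ShortExact) (X : C) (p : ℕ)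
    (h1 : IsZero ((B.rightDerived p).obj X)) (h2 : IsZero ((B.rightDerived (p + 1)).obj X)) :
    Nonempty ((K.rightDerived p).obj X ≅ (A.rightDerived (p + 1)).obj X) := by
  let P := injectiveResolution X
  exact ⟨P.isoRightDerivedObj K p ≪≫ (shortExact_derivedCx α β hw hex P).δIso p (p + 1) rfl
    (h1.of_iso (P.isoRightDerivedObj B p).symm) (h2.of_iso (P.isoRightDerivedObj B (p + 1)).symm) ≪≫
      (P.isoRightDerivedObj A (p + 1)).symm⟩

/-- Degree zero homology is the functor, for left exact functors. -/
def zeroHom {F : C ⥤ D} [F.Additive] [PreservesFiniteLimits F] {X : C} (P : InjectiveResolution X) :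
    F.obj X ≅ ((F.mapHomologicalComplex _).obj P.cocomplex).homology 0 :=
  asIso (P.toRightDerivedZero' F) ≪≫ CochainComplex.isoHomologyπ₀ _

theorem zeroHom_naturality {F F' : C ⥤ D} [F.Additive] [F'.Additive] [PreservesFiniteLimits F]
    [PreservesFiniteLimits F'] (γ : F ⟶ F') {X : C} (P : InjectiveResolution X) :
    γ.app X ≫ (zeroHom (F := F') P).hom = (zeroHom (F := F) P).hom ≫
      HomologicalComplex.homologyMap ((NatTrans.mapHomologicalComplex γ _).app P.cocomplex) 0 := by
  have h : γ.app X ≫ P.toRightDerivedZero' F' = P.toRightDerivedZero' F ≫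
      HomologicalComplex.cyclesMap ((NatTrans.mapHomologicalComplex γ _).app P.cocomplex) 0 := by
    simp only [← cancel_mono (HomologicalComplex.iCycles _ _), Category.assoc,
      InjectiveResolution.toRightDerivedZero'_comp_iCycles, HomologicalComplex.cyclesMap_i,
      InjectiveResolution.toRightDerivedZero'_comp_iCycles_assoc]
    exact (γ.naturality (P.ι.f 0)).symm
  simp only [zeroHom, Iso.trans_hom, asIso_hom, Category.assoc]
  rw [reassoc_of% h]
  simp

/-- The first derived functor as a cokernel. -/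
theorem exists_coker_iso [PreservesFiniteLimits B] [PreservesFiniteLimits K] (hw : ∀ Z, α.app Z ≫ β.app Z = 0)
    (hex : ∀ I : C, Injective I → (ShortComplex.mk (α.app I) (β.app I) (hw I)).ShortExact) (X : C)
    (h1 : IsZero ((B.rightDerived 1).obj X)) :
    Nonempty (cokernel (β.app X) ≅ (A.rightDerived 1).obj X) := by
  let P := injectiveResolution X
  have hT := shortExact_derivedCx α β hw hex P
  haveI : Epi (hT.δ 0 1 rfl) := hT.epi_δ 0 1 rfl (h1.of_iso (P.isoRightDerivedObj B 1).symm)
  let c := IsColimit.coconePointUniqueUpToIso (colimit.isColimit _) (hT.homology_exact₃ 0 1 rfl).gIsCokernel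
  exact ⟨cokernel.mapIso _ _ (zeroHom P) (zeroHom P) (zeroHom_naturality β P) ≪≫ c ≪≫
    (P.isoRightDerivedObj A 1).symm⟩

theorem nonempty_derived_iso {F F' : C ⥤ D} [F.Additive] [F'.Additive] (e : F ≅ F') (X : C) (i : ℕ) :
    Nonempty ((F.rightDerived i).obj X ≅ (F'.rightDerived i).obj X) :=
  ⟨{ hom := (NatTrans.rightDerived e.hom i).app X
     inv := (NatTrans.rightDerived e.inv i).app X
     hom_inv_id := by
       rw [← NatTrans.comp_app, ← NatTrans.rightDerived_comp, e.hom_inv_id, NatTrans.rightDerived_id]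
       rfl
     inv_hom_id := by
       rw [← NatTrans.comp_app, ← NatTrans.rightDerived_comp, e.inv_hom_id, NatTrans.rightDerived_id]
       rfl }⟩

end Groth.Agent.ExtFX
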