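import Groth.Agent.ExtFX.DerivedSeq
import Groth.Agent.ExtShX.Seq
import Groth.Agent.ExtShX.Resolution

/-!
# `f_* ℋom(-, I)` is exact for injective `I`
-/

set_option linter.style.haveILetI false
set_option linter.unusedSectionVars false
set_option backward.isDefEq.respectTransparency false
set_option backward.isDefEq.respectTransparency.types false
set_option maxHeartbeats 1000000

universe u

open CategoryTheory CategoryTheory.Limits AlgebraicGeometry TopologicalSpace Opposite

noncomputable section

attribute [local instance] CategoryTheory.Abelian.hasFiniteBiproducts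

namespace Groth.Agent.ExtFX

open Groth.Agent.ExtShX

variable {X Y : Scheme.{u}} (f : X ⟶ Y)

theorem app_surjective_of_lift {M N : X.Modules} (g : M ⟶ N)
    (h : ∀ (U : X.Opens) (σ : (KFlatLib.lsh U.ι).obj (Coh.structureModule U) ⟶ N), ∃ τ, τ ≫ g = σ)
    (U : X.Opens) : Function.Surjective (g.app U) := by
  intro s
  let A := KFlatLib.lshAdj U.ι
  let t : Γ((Scheme.Modules.restrictFunctor U.ι).obj N, ⊤) := AModX.res N (U.ι_image_le ⊤) s
  let ξ := InvX.ofSect t
  obtain ⟨τ, hτ⟩ := h U ((A.homEquiv _ _).symm ξ)
  let ξ' := A.homEquiv _ _ τ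
  have h1 : ξ' ≫ (Scheme.Modules.restrictFunctor U.ι).map g = ξ := by
    refine (A.homEquiv_naturality_right τ g).symm.trans ?_
    rw [hτ, Equiv.apply_symm_apply]
  have h2 : g.app (U.ι ''ᵁ ⊤) (InvX.one (X := (U : Scheme.{u})) ξ') = t :=
    (congrArg (fun q => InvX.one (X := (U : Scheme.{u})) q) h1).trans (InvX.one_ofSect t)
  refine ⟨AModX.res M (show U ≤ U.ι ''ᵁ ⊤ by simp) (InvX.one (X := (U : Scheme.{u})) ξ'), ?_⟩
  rw [AModX.app_res, h2]
  exact (AModX.res_res _ _ s).trans (AModX.res_self s)

theorem app_surjective_homMap_injective {K M : X.Modules} (a : K ⟶ M) [Mono a] (I : X.Modules) [Injective I]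
    (U : X.Opens) : Function.Surjective (((SheafHomX.homMap a).app I).app U) := by
  refine app_surjective_of_lift _ (fun U σ => ?_) U
  let l := ((SheafHomX.adj K).homEquiv _ _).symm σ
  let T := (DCoh.tensorBi (X := X)).obj ((KFlatLib.lsh U.ι).obj (Coh.structureModule U))
  haveI : Mono (T.map a) := by
    let F := Scheme.Modules.restrictFunctor U.ι
    haveI : F.PreservesMonomorphisms :=
      haveI : PreservesLimits F := (KFlatLib.lshAdj U.ι).rightAdjoint_preservesLimits
      inferInstance
    haveI : Mono ((KFlatLib.lsh U.ι).map (F.map a)) := inferInstance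
    have h : T.map a = (PnVan.shriekTen U K).inv ≫ (KFlatLib.lsh U.ι).map (F.map a) ≫ (PnVan.shriekTen U M).hom := by
      rw [PnVan.shriekTen_naturality, Iso.inv_hom_id_assoc]
    rw [h]
    infer_instance
  refine ⟨(SheafHomX.adj M).homEquiv _ _ (Injective.factorThru l (T.map a)), SheafHomX.hom_ext ?_⟩
  rw [SheafHomX.homEquiv_homMap, Equiv.symm_apply_apply]
  exact Injective.comp_factorThru l (T.map a)

/-- Sectionwise surjective maps stay epimorphisms after pushforward. -/
theorem epi_push_map {M N : X.Modules} (g : M ⟶ N) (h : ∀ U, Function.Surjective (g.app U)) :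
    Epi ((Scheme.Modules.pushforward f).map g) := by
  refine ⟨fun {W} a b hab => (Scheme.Modules.hom_ext (f := a) b) fun V =>
    AddCommGrpCat.hom_ext (AddMonoidHom.ext fun s => ?_)⟩
  obtain ⟨t, rfl⟩ := h (f ⁻¹ᵁ V) s
  exact congrArg (fun q : _ ⟶ W => q.app V t) hab

variable {f} in
theorem frozen_naturality {M M' : X.Modules} [ModSite.HasSheafHom (O := X.sheaf) M]
    [ModSite.HasSheafHom (O := X.sheaf) M'] (g : M' ⟶ M) (G : X.Modules) :
    (Functor.whiskerRight (ExtSupp.sheafHomMap (O := X.sheaf) g) (Scheme.Modules.pushforward f)).app G ≫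
        (Scheme.Modules.pushforward f).map ((sheafHomIso M').hom.app G) =
      (Scheme.Modules.pushforward f).map ((sheafHomIso M).hom.app G) ≫
        (Scheme.Modules.pushforward f).map ((SheafHomX.homMap g).app G) := by
  refine ((Scheme.Modules.pushforward f).map_comp _ _).symm.trans (Eq.trans ?_ ((Scheme.Modules.pushforward f).map_comp _ _))
  exact congrArg _ (sheafHomIso_naturality g G)

theorem map_homMap_zero (S : ShortComplex X.Modules) (G : X.Modules) :
    (Scheme.Modules.pushforward f).map ((SheafHomX.homMap S.g).app G) ≫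
      (Scheme.Modules.pushforward f).map ((SheafHomX.homMap S.f).app G) = 0 := by
  rw [← Functor.map_comp, homMap_zero_comp, Functor.map_zero]

theorem shortExact_push_hom {S : ShortComplex X.Modules} (hS : S.ShortExact) (I : X.Modules) [Injective I] :
    (ShortComplex.mk _ _ (map_homMap_zero f S I)).ShortExact := by
  haveI := hS.epi_g
  haveI := hS.mono_f
  haveI := mono_homMap S.g I
  haveI : PreservesFiniteLimits (Scheme.Modules.pushforward f) :=
    haveI : PreservesLimits (Scheme.Modules.pushforward f) :=
      (Scheme.Modules.pullbackPushforwardAdjunction f).rightAdjoint_preservesLimits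
    inferInstance
  exact { exact := (exact_homMap hS.exact I).map_of_mono_of_preservesKernel (Scheme.Modules.pushforward f)
            (mono_homMap S.g I) inferInstance
          mono_f := inferInstanceAs (Mono ((Scheme.Modules.pushforward f).map ((SheafHomX.homMap S.g).app I)))
          epi_g := epi_push_map f _ fun U => app_surjective_homMap_injective S.f I U }

section Frozen

variable (S : ShortComplex X.Modules) [ModSite.HasSheafHom (O := X.sheaf) S.X₁]
  [ModSite.HasSheafHom (O := X.sheaf) S.X₂] [ModSite.HasSheafHom (O := X.sheaf) S.X₃]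

/-- The frozen relative Hom functors. -/
abbrev fHom (M : X.Modules) [ModSite.HasSheafHom (O := X.sheaf) M] : X.Modules ⥤ Y.Modules :=
  ModSite.sheafHom (O := X.sheaf) M ⋙ Scheme.Modules.pushforward f

theorem frozen_zero (G : X.Modules) :
    (Functor.whiskerRight (ExtSupp.sheafHomMap (O := X.sheaf) S.g) (Scheme.Modules.pushforward f)).app G ≫
      (Functor.whiskerRight (ExtSupp.sheafHomMap (O := X.sheaf) S.f) (Scheme.Modules.pushforward f)).app G = 0 := by
  have h := frozen_naturality (f := f) S.g G
  have h' := frozen_naturality (f := f) S.f G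
  haveI : IsIso ((Scheme.Modules.pushforward f).map ((sheafHomIso S.X₁).hom.app G)) := inferInstance
  refine (cancel_mono ((Scheme.Modules.pushforward f).map ((sheafHomIso S.X₁).hom.app G))).1 ?_
  refine (Category.assoc _ _ _).trans ((congrArg (_ ≫ ·) h').trans ?_)
  refine ((Category.assoc _ _ _).symm.trans (congrArg (· ≫ _) h)).trans ?_
  rw [Category.assoc, map_homMap_zero, comp_zero]
  exact zero_comp.symm

variable {S} in
theorem frozen_shortExact (hS : S.ShortExact) (I : X.Modules) [Injective I] :
    (ShortComplex.mk _ _ (frozen_zero f S I)).ShortExact := by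
  refine ShortComplex.shortExact_of_iso (ShortComplex.isoMk
    (S₁ := ShortComplex.mk _ _ (map_homMap_zero f S I))
    ((Scheme.Modules.pushforward f).mapIso ((sheafHomIso S.X₃).app I)).symm
    ((Scheme.Modules.pushforward f).mapIso ((sheafHomIso S.X₂).app I)).symm
    ((Scheme.Modules.pushforward f).mapIso ((sheafHomIso S.X₁).app I)).symm ?_ ?_) (shortExact_push_hom f hS I)
  · rw [Iso.symm_hom, Iso.symm_hom, Iso.inv_comp_eq, ← Category.assoc, Iso.eq_comp_inv]
    exact frozen_naturality (f := f) S.g I
  · rw [Iso.symm_hom, Iso.symm_hom, Iso.inv_comp_eq, ← Category.assoc, Iso.eq_comp_inv]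
    exact frozen_naturality (f := f) S.f I

end Frozen

end Groth.Agent.ExtFX
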