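import Groth.Agent.ExtShX.Flasque
import Groth.Agent.ExtFX.PushHom
import Groth.Agent.QCoh.RpushGod

/-!
# `f_* ℋom(F, I)` is flasque for injective `I`
-/

set_option linter.style.haveILetI false
set_option linter.unusedSectionVars false
set_option backward.isDefEq.respectTransparency false
set_option backward.isDefEq.respectTransparency.types false
set_option maxHeartbeats 1000000

universe u

open CategoryTheory CategoryTheory.Limits AlgebraicGeometry TopologicalSpace Opposite

noncomputable section

namespace Groth.Agent.ExtFX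

open Groth.Agent.QCoh

variable {X Y : Scheme.{u}}

theorem isFlasqueMod_sheafHom (F I : X.Modules) [ModSite.HasSheafHom (O := X.sheaf) F] [Injective I] :
    IsFlasqueMod ((ExtShX.shom F).obj I) where
  epi {U V} i := by
    refine (AddCommGrpCat.epi_iff_surjective _).2 fun s => ?_
    haveI : DCoh.HasSheafHom F :=
      ⟨_, ⟨(SheafHomX.adj F).ofNatIsoLeft ((KFlatLib.tensorBiFlipIso X).app F)⟩⟩
    let u : DCoh.sheafHom F ≅ SheafHomX.hom F :=
      Adjunction.rightAdjointUniq ((DCoh.sheafHomAdj F).ofNatIsoLeft
        ((KFlatLib.tensorBiFlipIso X).app F).symm) (SheafHomX.adj F)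
    let w : (ExtShX.shom F).obj I ≅ (DCoh.sheafHom F).obj I :=
      (ExtShX.sheafHomIso F).app I ≪≫ (u.app I).symm
    obtain ⟨t, ht⟩ := ExtShX.surjective_map_sheafHom F I (leOfHom i.unop) (w.hom.app V.unop s)
    refine ⟨w.inv.app U.unop t, ?_⟩
    show rs ((ExtShX.shom F).obj I) i.unop.le (w.inv.app U.unop t) = s
    rw [← app_rs]
    refine (congrArg (w.inv.app V.unop) ht).trans ?_
    exact congr(($(w.hom_inv_id)).app V.unop s)

theorem isFlasqueMod_push (f : X ⟶ Y) {M : X.Modules} (h : IsFlasqueMod M) :
    IsFlasqueMod ((Scheme.Modules.pushforward f).obj M) where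
  epi {U V} i := h.epi ((Opens.map f.base).op.map i)

end Groth.Agent.ExtFX
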