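import Groth.Agent.ExtFX.Resolution
import Groth.Agent.ExtShX.DualTensor
import Groth.Agent.ExtShX.Twist
import Groth.Agent.SiteBase.DerivedPrecomp

/-!
# Twisting relative Ext sheaves by finite locally free modules
-/

set_option linter.style.haveILetI false
set_option linter.unusedSectionVars false
set_option backward.isDefEq.respectTransparency false
set_option backward.isDefEq.respectTransparency.types false
set_option maxHeartbeats 1000000

universe u

open CategoryTheory CategoryTheory.Limits AlgebraicGeometry TopologicalSpace Opposite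

noncomputable section

attribute [local instance] CategoryTheory.Abelian.hasFiniteBiproducts

namespace Groth.Agent.ExtFX

open Groth.Agent.ExtShX

variable {X Y : Scheme.{u}}

local notation "T⊗" => DCoh.tensorBi

/-- The dual. -/
abbrev dl (L : X.Modules) : X.Modules := (SheafHomX.hom L).obj (Coh.structureModule X)

/-- `- ⊗ L^∨ ≅ Hom(L, -)`. -/
def etaIso {L : X.Modules} (hL : FlatMod.IsFinLocFree L) : SheafHomX.ten (dl L) ≅ SheafHomX.hom L :=
  NatIso.ofComponents (fun G => dualTensorIso hL G) fun {G G'} φ => by
    show ((T⊗).map φ).app (dl L) ≫ alpha G' L = alpha G L ≫ (SheafHomX.hom L).map φ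
    apply SheafHomX.hom_ext
    rw [Adjunction.homEquiv_naturality_left_symm, Adjunction.homEquiv_naturality_right_symm, alpha, alpha,
      Equiv.symm_apply_apply, Equiv.symm_apply_apply]
    let A := (KFlatLib.tensorAssocSch X).hom
    let ev := (SheafHomX.adj L).counit.app (Coh.structureModule X)
    have a1 : ((T⊗).map (((T⊗).map φ).app (dl L))).app L ≫ ((A.app G').app (dl L)).app L =
        ((A.app G).app (dl L)).app L ≫ ((T⊗).map φ).app (((T⊗).obj (dl L)).obj L) :=
      NatTrans.congr_app (NatTrans.congr_app (A.naturality φ) (dl L)) L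
    have a2 : ((T⊗).map φ).app (((T⊗).obj (dl L)).obj L) ≫ ((T⊗).obj G').map ev =
        ((T⊗).obj G).map ev ≫ ((T⊗).map φ).app (Coh.structureModule X) :=
      (((T⊗).map φ).naturality ev).symm
    have a3 : ((T⊗).map φ).app (Coh.structureModule X) ≫ AmpleVan.twUnit.hom.app G' =
        AmpleVan.twUnit.hom.app G ≫ φ := AmpleVan.twUnit.hom.naturality φ
    show ((T⊗).map (((T⊗).map φ).app (dl L))).app L ≫ beta G' L = beta G L ≫ φ
    refine ((Category.assoc _ _ _).symm.trans ((congrArg (· ≫ _) a1).trans (Category.assoc _ _ _))).trans ?_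
    refine Eq.trans ?_ (Category.assoc _ _ _).symm
    refine congrArg (((A.app G).app (dl L)).app L ≫ ·) ?_
    refine ((Category.assoc _ _ _).symm.trans ((congrArg (· ≫ _) a2).trans (Category.assoc _ _ _))).trans ?_
    exact (congrArg (((T⊗).obj G).map ev ≫ ·) a3).trans (Category.assoc _ _ _).symm

/-- The internal Hom depends on the first argument only up to isomorphism. -/
def homCongr {M M' : X.Modules} (e : M ≅ M') : SheafHomX.hom M ≅ SheafHomX.hom M' :=
  Adjunction.rightAdjointUniq ((SheafHomX.adj M).ofNatIsoLeft ((DCoh.tensorBi (X := X)).flip.mapIso e))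
    (SheafHomX.adj M')

/-- Two internal Homs commute. -/
def homSwap (F M : X.Modules) : SheafHomX.hom M ⋙ SheafHomX.hom F ≅ SheafHomX.hom F ⋙ SheafHomX.hom M :=
  homTensorIso F M ≪≫ homCongr (((KFlatLib.tensorBiFlipIso X).app M).app F) ≪≫ (homTensorIso M F).symm

/-- `f_* Hom(f^* M, -) ≅ Hom(M, f_* -)`. -/
def pushHomIso (f : X ⟶ Y) (M : Y.Modules) :
    SheafHomX.hom ((Scheme.Modules.pullback f).obj M) ⋙ Scheme.Modules.pushforward f ≅
      Scheme.Modules.pushforward f ⋙ SheafHomX.hom M :=
  Adjunction.rightAdjointUniq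
    (((Scheme.Modules.pullbackPushforwardAdjunction f).comp
      (SheafHomX.adj ((Scheme.Modules.pullback f).obj M))).ofNatIsoLeft
        (NatIso.ofComponents (G := SheafHomX.ten M ⋙ Scheme.Modules.pullback f)
          (fun L => (((KFlatLib.pullTensorBiIso f).app L).app M).symm)
          (fun {L L'} φ => Eq.symm ((Iso.inv_comp_eq _).2 (((Iso.eq_comp_inv _).2
            (NatTrans.congr_app ((KFlatLib.pullTensorBiIso f).hom.naturality φ) M)).trans (Category.assoc _ _ _))))))
    ((SheafHomX.adj M).comp (Scheme.Modules.pullbackPushforwardAdjunction f))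

instance preservesMono_ten {L : X.Modules} [hL : Fact (FlatMod.IsFinLocFree L)] :
    (SheafHomX.ten L).PreservesMonomorphisms :=
  ⟨fun {A B} g _ => by
    let S : ShortComplex X.Modules := ShortComplex.mk g (cokernel.π g) (cokernel.condition g)
    have hS : S.ShortExact := { exact := ShortComplex.exact_of_g_is_cokernel _ (cokernelIsCokernel g) }
    exact (KFlatLib.flatObj_of_isFlat ((QCoh.isFlat_and_isFP_iff).2 hL.1).1 S hS).mono_f⟩

theorem exactness_hom {L : X.Modules} (hL : FlatMod.IsFinLocFree L) :
    PreservesFiniteLimits (SheafHomX.hom L) ∧ PreservesFiniteColimits (SheafHomX.hom L) ∧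
      (SheafHomX.hom L).PreservesInjectiveObjects := by
  haveI := preservesHomology_hom hL
  haveI : Fact (FlatMod.IsFinLocFree L) := ⟨hL⟩
  exact ⟨inferInstance, Functor.preservesFiniteColimits_of_preservesHomology (SheafHomX.hom L),
    Functor.preservesInjectiveObjects_of_adjunction_of_preservesMonomorphisms (SheafHomX.adj L)⟩

end Groth.Agent.ExtFX
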