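import Groth.Agent.ExtFX.PushHom

/-!
# Relative Ext sheaves from an acyclic resolution
-/

set_option linter.style.haveILetI false
set_option linter.unusedSectionVars false
set_option backward.isDefEq.respectTransparency false
set_option backward.isDefEq.respectTransparency.types false
set_option maxHeartbeats 1000000

universe u

open CategoryTheory CategoryTheory.Limits AlgebraicGeometry TopologicalSpace Opposite

noncomputable section

attribute [local instance] CategoryTheory.Abelian.hasFiniteBiproducts

namespace Groth.Agent.ExtFX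

open Groth.Agent.ExtShX

variable {X Y : Scheme.{u}} (f : X ⟶ Y)

instance additive_hom (F : X.Modules) : (SheafHomX.hom F).Additive := Functor.additive_of_preserves_binary_products _

instance additive_push : (Scheme.Modules.pushforward f).Additive :=
  haveI : PreservesLimits (Scheme.Modules.pushforward f) :=
    (Scheme.Modules.pullbackPushforwardAdjunction f).rightAdjoint_preservesLimits
  Functor.additive_of_preserves_binary_products _

/-- `f_* ℋom(F, -)`. -/
abbrev T (F : X.Modules) : X.Modules ⥤ Y.Modules := SheafHomX.hom F ⋙ Scheme.Modules.pushforward f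

instance preservesFiniteLimits_T (F : X.Modules) : PreservesFiniteLimits (T f F) :=
  haveI : PreservesFiniteLimits (Scheme.Modules.pushforward f) :=
    haveI : PreservesLimits (Scheme.Modules.pushforward f) :=
      (Scheme.Modules.pullbackPushforwardAdjunction f).rightAdjoint_preservesLimits
    inferInstance
  comp_preservesFiniteLimits _ _

instance additive_T (F : X.Modules) : (T f F).Additive := inferInstance

/-- Contravariance. -/
abbrev Tmap {F F' : X.Modules} (g : F' ⟶ F) : T f F ⟶ T f F' :=
  Functor.whiskerRight (SheafHomX.homMap g) (Scheme.Modules.pushforward f)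

theorem Tmap_comp {F F' F'' : X.Modules} (g : F'' ⟶ F') (g' : F' ⟶ F) (G : X.Modules) :
    (Tmap f (g ≫ g')).app G = (Tmap f g').app G ≫ (Tmap f g).app G := by
  show (Scheme.Modules.pushforward f).map _ = _
  rw [SheafHomX.homMap_comp, Functor.map_comp]
  rfl

variable (E' : ChainComplex X.Modules ℕ) {G : X.Modules}
  (hex : ∀ j : ℕ, E'.ExactAt (j + 1))
  (hT : ∀ j p : ℕ, 1 ≤ p → IsZero (((T f (E'.X j)).rightDerived p).obj G))

include hex hT in
theorem syz_shift : ∀ (i j l : ℕ), j + i = l →
    Nonempty (((T f (syz E' j)).rightDerived (i + 1)).obj G ≅ ((T f (syz E' l)).rightDerived 1).obj G) := by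
  intro i
  induction i with
  | zero =>
    intro j l h
    subst h
    exact ⟨Iso.refl _⟩
  | succ i ih =>
    intro j l h
    let S := ShortComplex.mk (syzI E' j) (syzP E' j) (syzI_syzP E' j)
    obtain ⟨e⟩ := exists_shift (Tmap f S.g) (Tmap f S.f) (map_homMap_zero f S)
      (fun I hI => @shortExact_push_hom _ _ f _ (syz_shortExact E' hex j) I hI) G (i + 1)
      (hT j (i + 1) (by omega)) (hT j (i + 2) (by omega))
    obtain ⟨e'⟩ := ih (j + 1) l (by omega)
    exact ⟨e.symm ≪≫ e'⟩

variable (C : CochainComplex Y.Modules ℕ) (e : ∀ j : ℕ, C.X j ≅ (T f (E'.X j)).obj G)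
  (hC : ∀ j : ℕ, C.d j (j + 1) ≫ (e (j + 1)).hom = (e j).hom ≫ (Tmap f (E'.d (j + 1) j)).app G)

include hC in
theorem d_eq' (j : ℕ) : C.d j (j + 1) = (e j).hom ≫ (Tmap f (E'.d (j + 1) j)).app G ≫ (e (j + 1)).inv := by
  rw [← Category.assoc, ← hC, Category.assoc, Iso.hom_inv_id, Category.comp_id]

/-- The cycles. -/
def cyc (j : ℕ) : (T f (syz E' j)).obj G ⟶ C.X j := (Tmap f (syzP E' j)).app G ≫ (e j).inv

include hC in
theorem cyc_d (j : ℕ) : cyc f E' C e j ≫ C.d j (j + 1) = 0 := by
  rw [d_eq' f E' C e hC j, cyc, Category.assoc, Iso.inv_hom_id_assoc, ← Category.assoc, ← Tmap_comp,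
    show E'.d (j + 1) j ≫ syzP E' j = 0 from cokernel.condition _]
  show (Scheme.Modules.pushforward f).map ((SheafHomX.homMap 0).app G) ≫ _ = 0
  rw [SheafHomX.homMap_zero, Functor.map_zero, zero_comp]

include hC in
theorem cyc_isKernel (j : ℕ) : Nonempty (IsLimit (KernelFork.ofι (cyc f E' C e j) (cyc_d f E' C e hC j))) := by
  have he : (ShortComplex.mk (E'.d (j + 1) j) (syzP E' j) (cokernel.condition _)).Exact :=
    ShortComplex.exact_of_g_is_cokernel _ (cokernelIsCokernel _)
  haveI : Epi (ShortComplex.mk (E'.d (j + 1) j) (syzP E' j) (cokernel.condition _)).g :=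
    inferInstanceAs (Epi (syzP E' j))
  haveI : PreservesFiniteLimits (Scheme.Modules.pushforward f) :=
    haveI : PreservesLimits (Scheme.Modules.pushforward f) :=
      (Scheme.Modules.pullbackPushforwardAdjunction f).rightAdjoint_preservesLimits
    inferInstance
  have h := (exact_homMap he G).map_of_mono_of_preservesKernel (Scheme.Modules.pushforward f)
    (mono_homMap (syzP E' j) G) inferInstance
  haveI hm : Mono ((Tmap f (syzP E' j)).app G) :=
    haveI := mono_homMap (syzP E' j) G
    inferInstanceAs (Mono ((Scheme.Modules.pushforward f).map ((SheafHomX.homMap (syzP E' j)).app G)))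
  haveI : Mono ((ShortComplex.mk _ _ (homMap_zero_comp
    (ShortComplex.mk (E'.d (j + 1) j) (syzP E' j) (cokernel.condition _)) G)).map
      (Scheme.Modules.pushforward f)).f := hm
  haveI : Mono (cyc f E' C e j) := mono_comp _ _
  refine ⟨KernelFork.IsLimit.ofι' _ _ fun {Z} a ha => ?_⟩
  have ha' : (a ≫ (e j).hom) ≫ (Tmap f (E'.d (j + 1) j)).app G = 0 := by
    rw [Category.assoc, ← hC, ← Category.assoc, ha, zero_comp]
  exact ⟨h.lift (a ≫ (e j).hom) ha', by
    show h.lift _ _ ≫ (Tmap f (syzP E' j)).app G ≫ (e j).inv = a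
    rw [← Category.assoc, show h.lift (a ≫ (e j).hom) ha' ≫ (Tmap f (syzP E' j)).app G = a ≫ (e j).hom
      from h.lift_f _ _, Category.assoc, Iso.hom_inv_id, Category.comp_id]⟩

include hC hex hT in
theorem homology_succ (i : ℕ) :
    Nonempty (C.homology (i + 1) ≅ ((T f (syz E' 0)).rightDerived (i + 1)).obj G) := by
  obtain ⟨hk⟩ := cyc_isKernel f E' C e hC (i + 1)
  let f' : C.X i ⟶ (T f (syz E' (i + 1))).obj G := (e i).hom ≫ (Tmap f (syzI E' i)).app G
  let Tc := C.sc' i (i + 1) (i + 2)
  haveI : Mono (cyc f E' C e (i + 1)) := mono_of_isLimit_fork hk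
  have hf' : f' ≫ cyc f E' C e (i + 1) = C.d i (i + 1) := by
    rw [d_eq' f E' C e hC i, cyc]
    simp only [f', Category.assoc]
    rw [← reassoc_of% (Tmap_comp f (syzP E' (i + 1)) (syzI E' i) G), syzP_syzI]
  have he : hk.lift (KernelFork.ofι Tc.f Tc.zero) = f' :=
    (cancel_mono (cyc f E' C e (i + 1))).1 ((Fork.IsLimit.lift_ι hk).trans hf'.symm)
  let hd : Tc.LeftHomologyData :=
    { K := (T f (syz E' (i + 1))).obj G
      H := cokernel f'
      i := cyc f E' C e (i + 1)
      π := cokernel.π f'
      wi := cyc_d f E' C e hC (i + 1)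
      hi := hk
      wπ := by rw [he]; exact cokernel.condition _
      hπ := CokernelCofork.IsColimit.ofπ _ _ (fun g hg => cokernel.desc f' g (by rw [← he]; exact hg))
          (fun g hg => cokernel.π_desc _ _ _) fun g hg m hm => by
            rw [← cancel_epi (cokernel.π f')]
            simpa using hm }
  let S := ShortComplex.mk (syzI E' i) (syzP E' i) (syzI_syzP E' i)
  obtain ⟨c⟩ := exists_coker_iso (Tmap f S.g) (Tmap f S.f) (map_homMap_zero f S)
    (fun I hI => @shortExact_push_hom _ _ f _ (syz_shortExact E' hex i) I hI) G (hT i 1 le_rfl)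
  obtain ⟨s⟩ := syz_shift f E' hex hT i 0 i (zero_add i)
  exact ⟨C.homologyIsoSc' i (i + 1) (i + 2) (by simp) (by simp) ≪≫ hd.homologyIso ≪≫
    cokernelEpiComp (e i).hom ((Tmap f (syzI E' i)).app G) ≪≫ c ≪≫ s.symm⟩

include hC in
theorem homology_zero : Nonempty (C.homology 0 ≅ ((T f (syz E' 0)).rightDerived 0).obj G) := by
  obtain ⟨hk⟩ := cyc_isKernel f E' C e hC 0
  exact ⟨(CochainComplex.isoHomologyπ₀ C).symm ≪≫
    IsLimit.conePointUniqueUpToIso (C.cyclesIsKernel 0 1 (by simp)) hk ≪≫
      ((T f (syz E' 0)).rightDerivedZeroIsoSelf.app G).symm⟩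

/-- The functor only depends on the module up to isomorphism. -/
def Tiso {F F' : X.Modules} (a : F ≅ F') : T f F' ≅ T f F :=
  NatIso.ofComponents (fun Z =>
    { hom := (Tmap f a.hom).app Z
      inv := (Tmap f a.inv).app Z
      hom_inv_id := by
        rw [← Tmap_comp, a.inv_hom_id]
        show (Scheme.Modules.pushforward f).map _ = _
        rw [SheafHomX.homMap_id, CategoryTheory.Functor.map_id]
        rfl
      inv_hom_id := by
        rw [← Tmap_comp, a.hom_inv_id]
        show (Scheme.Modules.pushforward f).map _ = _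
        rw [SheafHomX.homMap_id, CategoryTheory.Functor.map_id]
        rfl })
    fun k => (Tmap f a.hom).naturality k

end Groth.Agent.ExtFX
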