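import Groth.Agent.ExtFX.Bidual
import Groth.Agent.H9PB.DualPull
import Groth.Agent.SheafHomX.Extra
import Groth.Agent.H23.PullPush
import Groth.Agent.InvX.Tensor

/-!
# `Ext^p_f(F ⊗ L, G ⊗ f^* N) ≅ Ext^p_f(F, G ⊗ L^∨) ⊗ N`
-/

set_option linter.style.haveILetI false
set_option linter.unusedSectionVars false
set_option backward.isDefEq.respectTransparency false
set_option backward.isDefEq.respectTransparency.types false
set_option maxHeartbeats 1000000

universe u

open CategoryTheory CategoryTheory.Limits AlgebraicGeometry TopologicalSpace Opposite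

noncomputable section

namespace Groth.Agent.ExtFX

open Groth.Agent.ExtShX

variable {X Y : Scheme.{u}}

theorem isFinLocFree_dl {L : X.Modules} (hL : FlatMod.IsFinLocFree L) : FlatMod.IsFinLocFree (dl L) :=
  SheafHomX.isFinLocFree_hom hL
    (H23.PullPush.isFinLocFree_of_isInvertible InvX.isInvertible_structureModule)

theorem nonempty_twist (f : X ⟶ Y) (F G L : X.Modules) (N : Y.Modules) (hL : FlatMod.IsFinLocFree L)
    (hN : FlatMod.IsFinLocFree N) (p : ℕ) :
    Nonempty (((T f (CohB1.tensorMod F L)).rightDerived p).obj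
        (CohB1.tensorMod G ((Scheme.Modules.pullback f).obj N)) ≅
      CohB1.tensorMod (((T f F).rightDerived p).obj (CohB1.tensorMod G (dl L))) N) := by
  haveI : EnoughInjectives X.Modules := SpObjSS.enoughInjectives_of_hasInjectiveResolutions
  let M := dl N
  have hM : FlatMod.IsFinLocFree M := isFinLocFree_dl hN
  let P := (Scheme.Modules.pullback f).obj M
  have hP : FlatMod.IsFinLocFree P := KFlatLib.isFinLocFree_pullback f hM
  haveI := isIso_bidual hN
  let eN : N ≅ dl M := asIso (bidual N)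
  obtain ⟨d⟩ := H9PB.nonempty_pullback_dual f hM
  let eP : (Scheme.Modules.pullback f).obj N ≅ dl P := (Scheme.Modules.pullback f).mapIso eN ≪≫ d
  let aX : SheafHomX.ten ((Scheme.Modules.pullback f).obj N) ≅ SheafHomX.hom P :=
    (DCoh.tensorBi (X := X)).flip.mapIso eP ≪≫ etaIso hP
  let aY : SheafHomX.ten N ≅ SheafHomX.hom M := (DCoh.tensorBi (X := Y)).flip.mapIso eN ≪≫ etaIso hM
  obtain ⟨hP1, hP2, hP3⟩ := exactness_hom hP
  obtain ⟨hL1, hL2, hL3⟩ := exactness_hom hL
  obtain ⟨hM1, hM2, -⟩ := exactness_hom hM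
  letI : ∀ M : X.Modules, (T f M).Additive := fun M => additive_T f M
  let Z := CohB1.tensorMod G ((Scheme.Modules.pullback f).obj N)
  let W := CohB1.tensorMod G (dl L)
  obtain ⟨e1⟩ := nonempty_derived_iso
    ((Functor.isoWhiskerRight (homTensorIso F L) (Scheme.Modules.pushforward f)).symm ≪≫
      Functor.associator _ _ _) Z p
  let e2 := (SiteBase.rightDerivedPrecompIso (SheafHomX.hom L) (T f F) p).app Z
  let e3 : (SheafHomX.hom L).obj Z ≅ (SheafHomX.hom P).obj W :=
    (SheafHomX.hom L).mapIso (aX.app G) ≪≫ (homSwap L P).app G ≪≫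
      (SheafHomX.hom P).mapIso ((etaIso hL).app G).symm
  let e4 := (SiteBase.rightDerivedPrecompIso (SheafHomX.hom P) (T f F) p).app W
  obtain ⟨e5⟩ := nonempty_derived_iso
    ((Functor.associator _ _ _).symm ≪≫
      Functor.isoWhiskerRight (homSwap F P) (Scheme.Modules.pushforward f) ≪≫ Functor.associator _ _ _ ≪≫
      Functor.isoWhiskerLeft (SheafHomX.hom F) (pushHomIso f M) ≪≫ (Functor.associator _ _ _).symm :
      SheafHomX.hom P ⋙ T f F ≅ T f F ⋙ SheafHomX.hom M) W p
  let e6 := (SiteBase.rightDerivedCompIso (T f F) (SheafHomX.hom M) p).app W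
  exact ⟨e1 ≪≫ e2 ≪≫ ((T f F).rightDerived p).mapIso e3 ≪≫ e4.symm ≪≫ e5 ≪≫ e6 ≪≫ (aY.app _).symm⟩

end Groth.Agent.ExtFX
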